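import Cfsg.Agent.Lib.Schur.JFour.Data
import Cfsg.Agent.Lib.Sporadic.J4Aut.Eval

/-!
# Kernel checks for the multiplier of the presented fourth Janko group
-/

set_option autoImplicit false
set_option maxRecDepth 100000

namespace CfsgLib.Schur.Sporadic.JFour

open CfsgLib.Sporadic.J4Aut CfsgLib.Sporadic.CosetCert.J4Index CfsgLib.Sporadic.J4Rep
  CfsgLib.Sporadic.BitMatrix

/-- The second generator of the trio stabiliser. -/
def wW : List ℕ := [1, 0, 1, 0, 2, 0, 2, 0, 1, 0, 1, 0, 1]

/-- The generators of the trio stabiliser. -/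
def lGen (i : ℕ) : List ℕ := [[0], wW, winv wW].getD i []

/-- A product of them. -/
def lWord (l : List ℕ) : List ℕ := l.flatMap lGen

/-- The conjugate of the involution. -/
def iConj (m : List ℕ) : List ℕ := winv m ++ iW ++ m

/-- The word of an element centralising `t`. -/
def cWord (w g m : List ℕ) (l : List ℕ) : List ℕ := w ++ g ++ winv (hW ++ m) ++ lWord l

/-- The conjugators of `t` for the third last relator. -/
def wY (k : ℕ) : List ℕ := aW ++ List.replicate k 2

/-- The conjugators of `t` for the last relator. -/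
def wD : ℕ → List ℕ
  | 0 => bW
  | 1 => hW ++ sW
  | _ => bW ++ winv qW ++ [3]

/-- An element of odd order centralising `t`, as a matrix and as a word. -/
noncomputable def cert (C : List ℕ) (o : ℕ) (w g m l : List ℕ) : Bool :=
  ok 112 C && (sameP [C] ((cWord w g m l).map lett) && (sameP [C, lett 3] [lett 3, C] &&
    (sameP (List.replicate o C) [] && Nat.beq (o % 2) 1)))

theorem certY0 : cert cY0 oY0 (wY 0) gY3 mY0 lY0 = true := by decide +kernel
theorem certY1 : cert cY1 oY1 (wY 1) gY3 mY1 lY1 = true := by decide +kernel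
theorem certY2 : cert cY2 oY2 (wY 2) gY3 mY2 lY2 = true := by decide +kernel
theorem certD0 : cert cD0 oD0 (wD 0) gD mD0 lD0 = true := by decide +kernel
theorem certD1 : cert cD1 oD1 (wD 1) gD mD1 lD1 = true := by decide +kernel
theorem certD2 : cert cD2 oD2 (wD 2) gD mD2 lD2 = true := by decide +kernel

theorem t_conj : sameW [3] (hW ++ iW ++ winv hW) = true := by decide +kernel

theorem tk_comm : sameW (3 :: kW ++ [0]) (0 :: 3 :: kW) = true := by decide +kernel

theorem tk_order : sameW (List.replicate 11 (3 :: kW)).flatten [] = true := by decide +kernel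

/-- Every letter is `x`, `y` or `y⁻¹`. -/
def inXY (L : List ℕ) : Bool := L.all fun a => Nat.blt a 3

theorem in_XY : [iW, kW, aW, bW, qW, sW, mY0, mY1, mY2, mD0, mD1, mD2, wW].all inXY = true := by decide +kernel

theorem perm_facts :
    (Nat.beq (wordP (iW ++ iW)) idP && (Nat.beq (wordP (kW ++ [0])) (wordP (0 :: kW)) &&
    (Nat.beq (wordP (List.replicate 21 (0 :: wW)).flatten) idP &&
    (Nat.beq (wordP (qW ++ qW)) (wordP (iConj sW)) && (Nat.beq (wordP (lWord qSeq)) (wordP qW) &&
    (Nat.beq (wordP (iConj mY1 ++ iConj mY2 ++ iConj mY0)) idP &&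
    Nat.beq (wordP (iConj mD2 ++ iConj mD1 ++ iConj mD0)) idP)))))) = true := by decide +kernel

end CfsgLib.Schur.Sporadic.JFour
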