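import Cfsg.Agent.Lib.Schur.Basic
import Cfsg.Agent.Lib.Sporadic.J4Aut.XYGroup

/-!
# Lifts of the generators of the presented fourth Janko group to a central extension
-/

set_option autoImplicit false

namespace CfsgLib.Schur.Sporadic.JFour

open CfsgLib.Sporadic.J4Aut CfsgLib.Sporadic.CosetCert.J4Index CfsgLib.Sporadic.CosetCert.J4M24
open Cfsg.Spor

universe u

variable {Γ : Type u} [Group Γ] (σ : Γ →* J4P)

/-- A homomorphic section over the subgroup of `x, y`. -/
def IsSection (s : XY →* Γ) : Prop := ∀ a : XY, σ (s a) = a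

theorem exists_section (hs : Function.Surjective σ) (hk : σ.ker ≤ Subgroup.center Γ) :
    ∃ s : XY →* Γ, IsSection σ s := by
  let P := XY.comap σ
  let ξ : P →* XY := σ.subgroupComap XY
  have hξ : Function.Surjective ξ := fun a => by
    obtain ⟨g, hg⟩ := hs a
    exact ⟨⟨g, show σ g ∈ XY from hg ▸ a.2⟩, Subtype.ext hg⟩
  have hξk : ξ.ker ≤ Subgroup.center P := fun g hg => by
    rw [Subgroup.mem_center_iff]
    intro h
    exact Subtype.ext (Subgroup.mem_center_iff.1
      (hk (show (g : Γ) ∈ σ.ker from congrArg Subtype.val (MonoidHom.mem_ker.1 hg))) h)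
  have : Finite XY := CfsgLib.Sporadic.CosetCert.J4Index.finite_XY
  have hinf := CfsgLib.Schur.Basic.ker_inf_commutator_eq_bot multiplier_XY ξ hξ hξk
  have himg : (commutator P).map ξ = ⊤ := by
    rw [commutator_def, Subgroup.map_commutator, Subgroup.map_top_of_surjective ξ hξ, ← commutator_def,
      commutator_XY]
  let f : commutator P →* XY := ξ.comp (commutator P).subtype
  have hf : Function.Bijective f := by
    refine ⟨(injective_iff_map_eq_one _).2 fun c hc => ?_, fun a => ?_⟩
    · have hm : (c : P) ∈ ξ.ker ⊓ commutator P := ⟨hc, c.2⟩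
      rw [hinf, Subgroup.mem_bot] at hm
      exact Subtype.ext hm
    · have ha : a ∈ (commutator P).map ξ := himg ▸ Subgroup.mem_top a
      obtain ⟨c, hc, rfl⟩ := ha
      exact ⟨⟨c, hc⟩, rfl⟩
  refine ⟨(P.subtype.comp (commutator P).subtype).comp (MulEquiv.ofBijective f hf).symm.toMonoidHom, fun a => ?_⟩
  exact congrArg Subtype.val (MulEquiv.apply_symm_apply (MulEquiv.ofBijective f hf) a)

/-- The images of the letters. -/
def fLet (X Y T : Γ) (k : ℕ) : Γ := [X, Y, Y⁻¹, T].getD k 1

/-- The value of a word. -/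
def gv (X Y T : Γ) (L : List ℕ) : Γ := (L.map (fLet X Y T)).prod

variable {σ}

theorem commute_of_odd (hk : σ.ker ≤ Subgroup.center Γ) {T g : Γ} (hT : T * T = 1)
    (hc : Commute (σ T) (σ g)) {n : ℕ} (hn : n % 2 = 1) (hg : σ g ^ n = 1) : Commute T g := by
  obtain ⟨z, hz⟩ : ∃ z, z = T * g * T * g⁻¹ := ⟨_, rfl⟩
  have hTi : σ T * σ T = 1 := by rw [← map_mul, hT, map_one]
  have hzc : ∀ a, Commute z a := fun a => (Subgroup.mem_center_iff.1 (hk (by
    rw [MonoidHom.mem_ker, hz]
    simp only [map_mul, map_inv]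
    rw [mul_assoc (σ T) (σ g), ← hc.eq, ← mul_assoc, hTi, one_mul, mul_inv_cancel])) a).symm
  have hgn : ∀ a, Commute (g ^ n) a := fun a => (Subgroup.mem_center_iff.1 (hk (by
    rw [MonoidHom.mem_ker, map_pow, hg])) a).symm
  have e1 : T * g * T = z * g := by rw [hz, inv_mul_cancel_right]
  have hTinv : T⁻¹ = T := inv_eq_of_mul_eq_one_right hT
  have h2 : z * z = 1 := by
    have e : T * (z * g) * T = g := by
      rw [← e1]
      calc T * (T * g * T) * T = (T * T) * g * (T * T) := by group
        _ = g := by rw [hT, one_mul, mul_one]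
    rw [← mul_assoc T, ← (hzc T).eq, mul_assoc z, mul_assoc z, e1, ← mul_assoc] at e
    exact mul_right_cancel (e.trans (one_mul g).symm)
  have hzn : z ^ n = 1 := by
    have e : (T * g * T) ^ n = T * g ^ n * T := by
      have := conj_pow (i := n) (a := T) (b := g)
      rwa [hTinv] at this
    rw [e1, (hzc g).mul_pow, mul_assoc T, (hgn T).eq, ← mul_assoc, hT, one_mul] at e
    exact mul_right_cancel (e.trans (one_mul _).symm)
  have hz1 : z = 1 := by
    obtain ⟨m, rfl⟩ : ∃ m, n = 2 * m + 1 := ⟨n / 2, by omega⟩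
    rwa [pow_succ, pow_mul, pow_two, h2, one_pow, one_mul] at hzn
  rw [hz1, one_mul] at e1
  show T * g = g * T
  calc T * g = T * g * T * T := by rw [mul_assoc (T * g), hT, mul_one]
    _ = g * T := by rw [e1]

section

variable (hk : σ.ker ≤ Subgroup.center Γ) {s : XY →* Γ} (hs : IsSection σ s) (T : Γ)

theorem gv_append (X Y : Γ) (L M : List ℕ) : gv X Y T (L ++ M) = gv X Y T L * gv X Y T M := by simp [gv]

theorem gv_winv {X Y : Γ} (hX : X * X = 1) (hT : T * T = 1) (L : List ℕ) :
    gv X Y T (winv L) = (gv X Y T L)⁻¹ := by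
  have hlet : ∀ k, fLet X Y T (invL k) = (fLet X Y T k)⁻¹ := by
    intro k
    match k with
    | 0 => simp [fLet, invL, inv_eq_of_mul_eq_one_right hX]
    | 1 => simp [fLet, invL]
    | 2 => simp [fLet, invL]
    | 3 => simp [fLet, invL, inv_eq_of_mul_eq_one_right hT]
    | k + 4 => simp [fLet, invL]
  induction L with
  | nil => simp [gv, winv]
  | cons a t ih =>
    rw [winv, List.map_cons, List.reverse_cons, gv_append, ← winv, ih]
    simp [gv, hlet]

/-- The lift of `x`. -/
noncomputable def liftX : Γ := s ⟨gX, Subgroup.subset_closure (Or.inl rfl)⟩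

/-- The lift of `y`. -/
noncomputable def liftY : Γ := s ⟨gY, Subgroup.subset_closure (Or.inr rfl)⟩

theorem gv_eq_section : ∀ (L : List ℕ) (hL : ∀ a ∈ L, a < 3),
    gv (liftX (s := s)) (liftY (s := s)) T L = s ⟨wev L, wev_mem_XY hL⟩ := by
  intro L
  induction L with
  | nil => intro _; exact (map_one s).symm
  | cons a t ih =>
    intro hL
    have ha := hL a List.mem_cons_self
    have e : gv (liftX (s := s)) (liftY (s := s)) T (a :: t) =
        fLet (liftX (s := s)) (liftY (s := s)) T a * gv (liftX (s := s)) (liftY (s := s)) T t := by simp [gv]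
    rw [e, ih fun b hb => hL b (List.mem_cons_of_mem _ hb)]
    interval_cases a <;> simp only [fLet, List.getD_cons_zero, List.getD_cons_succ, liftX, liftY, ← map_mul,
      ← map_inv] <;> congr 1

theorem gv_eq_of_perm {L M : List ℕ} (hL : ∀ a ∈ L, a < 3) (hM : ∀ a ∈ M, a < 3) (h : wordP L = wordP M) :
    gv (liftX (s := s)) (liftY (s := s)) T L = gv (liftX (s := s)) (liftY (s := s)) T M := by
  rw [gv_eq_section T L hL, gv_eq_section T M hM]
  exact congrArg s (Subtype.ext (wev_eq_of_perm hL hM h))

include hs in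
theorem map_gv (hT : σ T = gT) (L : List ℕ) :
    σ (gv (liftX (s := s)) (liftY (s := s)) T L) = wev L := by
  induction L with
  | nil => simp [gv, wev_nil]
  | cons a t ih =>
    rw [wev_cons, ← ih]
    simp only [gv, List.map_cons, List.prod_cons, map_mul]
    congr 1
    match a with
    | 0 => exact hs _
    | 1 => exact hs _
    | 2 => exact (map_inv σ _).trans (congrArg _ (hs _))
    | 3 => exact hT
    | k + 4 => simp [fLet, letG]

end

end CfsgLib.Schur.Sporadic.JFour
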