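import Cfsg.Agent.Lib.Schur.JFour.Check
import Cfsg.Agent.Lib.Schur.JFour.Lifts

/-!
# The multiplier of the presented fourth Janko group is trivial

In a stem extension the group of `x, y` lifts uniquely. The lift of `t` is a conjugate of an involution there; it
commutes with the lifts of the trio stabiliser, and both long relators are products of three conjugate involutions
which can be moved into the lift of `⟨x, y⟩`.
-/

set_option autoImplicit false
set_option maxRecDepth 100000

namespace CfsgLib.Schur.Sporadic.JFour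

open CfsgLib.Sporadic.J4Aut CfsgLib.Sporadic.CosetCert.J4Index CfsgLib.Sporadic.CosetCert.J4M24
  CfsgLib.Sporadic.J4Rep
open Cfsg.Spor
open scoped commutatorElement

attribute [local irreducible] sameP sameW wordP idP iW hW kW aW bW qW sW gY3 gD cY0 cY1 cY2 cD0 cD1 cD2
  mY0 mY1 mY2 mD0 mD1 mD2 lY0 lY1 lY2 lD0 lD1 lD2 qSeq

theorem lt_three {L : List ℕ} (h : inXY L = true) : ∀ a ∈ L, a < 3 := by
  intro a ha
  exact Nat.le_of_ble_eq_true (List.all_eq_true.1 h a ha)

theorem inXY_append {L M : List ℕ} (hL : inXY L = true) (hM : inXY M = true) : inXY (L ++ M) = true := by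
  rw [inXY, List.all_append, Bool.and_eq_true]
  exact ⟨hL, hM⟩

theorem inXY_winv {L : List ℕ} (hL : inXY L = true) : inXY (winv L) = true := by
  rw [inXY, winv, List.all_reverse, List.all_map]
  refine List.all_eq_true.2 fun a ha => Nat.ble_eq_true_of_le ?_
  have := lt_three hL a ha
  interval_cases a <;> decide

/-- What a certificate of an element of odd order gives in the group. -/
theorem cert_spec (hinj : Function.Injective rep) {C : List ℕ} {o : ℕ} {w g m l : List ℕ}
    (h : cert C o w g m l = true) :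
    Commute gT (wev (cWord w g m l)) ∧ wev (cWord w g m l) ^ o = 1 ∧ o % 2 = 1 := by
  simp only [cert, Bool.and_eq_true] at h
  obtain ⟨hok, h1, h2, h3, h4⟩ := h
  have hC := isMat_word hok h1
  obtain ⟨c, hc⟩ : ∃ c, c = wev (cWord w g m l) := ⟨_, rfl⟩
  rw [← hc] at hC ⊢
  have ht : IsMat (lett 3) gT := isMat_let 3
  refine ⟨?_, ?_, Nat.eq_of_beq_eq_true h4⟩
  · have := (eq_iff_sameP hinj (l := [(C, c), (lett 3, gT)]) (m := [(lett 3, gT), (C, c)])
      (by simp [hC, ht]) (by simp [hC, ht])).1 h2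
    show gT * c = c * gT
    simpa using this.symm
  · have := (eq_iff_sameP hinj (l := List.replicate o (C, c)) (m := [])
      (fun p hp => by rw [List.eq_of_mem_replicate hp]; exact hC) (by simp)).1 (by simpa using h3)
    simpa using this

theorem commutator_le_of_decomp {Γ : Type*} [Group Γ] {J C : Subgroup Γ} (hC : C ≤ Subgroup.center Γ)
    (h : ∀ g : Γ, ∃ j ∈ J, ∃ c ∈ C, g = j * c) : commutator Γ ≤ J := by
  rw [commutator_def, Subgroup.commutator_le]
  intro a _ b _
  obtain ⟨i, hi, c, hc, rfl⟩ := h a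
  obtain ⟨j, hj, d, hd, rfl⟩ := h b
  have c1 := Subgroup.mem_center_iff.1 (hC hc)
  have d1 := Subgroup.mem_center_iff.1 (hC hd)
  have e : ⁅i * c, j * d⁆ = i * j * i⁻¹ * j⁻¹ := by
    rw [commutatorElement_def]
    calc i * c * (j * d) * (i * c)⁻¹ * (j * d)⁻¹ = i * (c * (j * d)) * (c⁻¹ * i⁻¹) * (d⁻¹ * j⁻¹) := by group
      _ = i * (j * d * c) * (c⁻¹ * i⁻¹) * (d⁻¹ * j⁻¹) := by rw [c1]
      _ = i * j * (d * i⁻¹) * (d⁻¹ * j⁻¹) := by group
      _ = i * j * (i⁻¹ * d) * (d⁻¹ * j⁻¹) := by rw [d1]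
      _ = i * j * i⁻¹ * j⁻¹ := by group
  rw [e]
  exact mul_mem (mul_mem (mul_mem hi hj) (inv_mem hi)) (inv_mem hj)

theorem ker_eq_bot (hinj : Function.Injective rep) (Γ : Type) [Group Γ] [Finite Γ] (σ : Γ →* J4P)
    (hσ : Cfsg.IsStemExtension σ) : σ.ker = ⊥ := by
  obtain ⟨hsur, hk, hcom⟩ := hσ
  obtain ⟨s, hs⟩ := exists_section σ hsur hk
  obtain ⟨X, hX⟩ : ∃ X, X = liftX (s := s) := ⟨_, rfl⟩
  obtain ⟨Y, hY⟩ : ∃ Y, Y = liftY (s := s) := ⟨_, rfl⟩
  have hi := in_XY
  simp only [List.all_cons, List.all_nil, Bool.and_eq_true, Bool.and_true] at hi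
  obtain ⟨hiW, hkW, haW, hbW, hqW, hsW, hmY0, hmY1, hmY2, hmD0, hmD1, hmD2, hwW⟩ := hi
  have hp := perm_facts
  simp only [Bool.and_eq_true] at hp
  obtain ⟨pI, pK, pW, pQ, pL, pY3, pD3⟩ := hp
  obtain ⟨Hc, hHc⟩ := hsur (wev hW)
  obtain ⟨I0, hI0⟩ : ∃ I0, I0 = gv X Y 1 iW := ⟨_, rfl⟩
  have indep : ∀ {L : List ℕ}, inXY L = true → ∀ S S' : Γ, gv X Y S L = gv X Y S' L := fun {L} hL S S' => by
    rw [hX, hY, gv_eq_section S L (lt_three hL), gv_eq_section S' L (lt_three hL)]
  have hnil : ∀ S : Γ, gv X Y S [] = 1 := fun S => rfl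
  have perm : ∀ {L M : List ℕ}, inXY L = true → inXY M = true → Nat.beq (wordP L) (wordP M) = true →
      ∀ S : Γ, gv X Y S L = gv X Y S M := fun hL hM h S => by
    rw [hX, hY]
    exact gv_eq_of_perm S (lt_three hL) (lt_three hM) (Nat.eq_of_beq_eq_true h)
  have hidP : wordP [] = idP := by rw [wordP]
  have hI2 : I0 * I0 = 1 := by
    rw [hI0, ← gv_append 1 X Y iW iW, ← hnil 1]
    exact perm (inXY_append hiW hiW) rfl (by rw [hidP]; exact pI) 1
  obtain ⟨T, hTd⟩ : ∃ T, T = Hc * I0 * Hc⁻¹ := ⟨_, rfl⟩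
  have hT2 : T * T = 1 := by
    rw [hTd]
    calc Hc * I0 * Hc⁻¹ * (Hc * I0 * Hc⁻¹) = Hc * (I0 * I0) * Hc⁻¹ := by group
      _ = 1 := by rw [hI2, mul_one, mul_inv_cancel]
  have hσI : σ I0 = wev iW := by
    rw [hI0, hX, hY, gv_eq_section 1 iW (lt_three hiW)]
    exact hs _
  have hσT : σ T = gT := by
    rw [hTd, map_mul, map_mul, map_inv, hHc, hσI, ← wev_winv, ← wev_append, ← wev_append]
    exact (wev_eq hinj t_conj).symm.trans (by simp [wev, letG])
  have hgv : ∀ L, σ (gv X Y T L) = wev L := fun L => by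
    rw [hX, hY]; exact map_gv hs T hσT L
  have hσX : σ X = gX := by rw [hX]; exact hs _
  have hX2 : X * X = 1 := by
    rw [hX, liftX, ← map_mul, ← map_one s]
    exact congrArg s (Subtype.ext (by rw [← pow_two]; exact rels.1))
  have hY3 : Y ^ 3 = 1 := by
    rw [hY, liftY, ← map_pow, ← map_one s]
    exact congrArg s (Subtype.ext (by exact rels.2.1))
  have inv := gv_winv T (X := X) (Y := Y) hX2 hT2
  have app := gv_append T X Y
  have hTH : T = gv X Y T hW * I0 * (gv X Y T hW)⁻¹ := by
    obtain ⟨z, hz⟩ : ∃ z, z = Hc⁻¹ * gv X Y T hW := ⟨_, rfl⟩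
    have hzk : z ∈ σ.ker := by rw [MonoidHom.mem_ker, hz, map_mul, map_inv, hHc, hgv, inv_mul_cancel]
    have hzc := Subgroup.mem_center_iff.1 (hk hzk) I0
    have e : gv X Y T hW = Hc * z := by rw [hz, mul_inv_cancel_left]
    rw [hTd] at e ⊢
    rw [e]
    calc Hc * I0 * Hc⁻¹ = Hc * (I0 * z) * (z⁻¹ * Hc⁻¹) := by group
      _ = Hc * z * I0 * (Hc * z)⁻¹ := by rw [hzc]; group
  have hTq : (gv X Y T hW)⁻¹ * T * gv X Y T hW = I0 := by
    obtain ⟨a, ha⟩ : ∃ a, a = gv X Y T hW := ⟨_, rfl⟩
    rw [← ha] at hTH ⊢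
    rw [hTH]
    group
  -- `T` commutes with `X`
  obtain ⟨K, hK⟩ : ∃ K, K = gv X Y T kW := ⟨_, rfl⟩
  have hXK : Commute X K := by
    have e := perm (inXY_append hkW (M := [0]) rfl) (show inXY (0 :: kW) = true from inXY_append (L := [0]) rfl hkW) pK T
    rw [app] at e
    show X * K = K * X
    rw [hK]
    simpa [gv, fLet] using e.symm
  have hXT : Commute X T := by
    have hc : Commute (σ X) (σ (T * K)) := by
      have h1 := wev_eq hinj tk_comm
      show σ X * σ (T * K) = σ (T * K) * σ X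
      rw [hK, map_mul, hgv, hσT, hσX]
      simp only [wev_cons, wev_append, wev_nil, mul_one] at h1
      simpa [letG] using h1.symm
    have h11 : σ (T * K) ^ 11 = 1 := by
      have h1 := wev_eq hinj tk_order
      rw [wev_power, wev_nil, wev_cons] at h1
      rw [map_mul, hK, hgv, hσT]
      simpa [letG] using h1
    have hx2 : σ X * σ X = 1 := by rw [← map_mul, hX2, map_one]
    have h := commute_of_odd hk hX2 hc (n := 11) rfl h11
    show X * T = T * X
    calc X * T = X * (T * K) * K⁻¹ := by group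
      _ = T * K * X * K⁻¹ := by rw [h.eq]
      _ = T * (X * K) * K⁻¹ := by rw [hXK.eq]; group
      _ = T * X := by group
  -- `T` commutes with `W`
  obtain ⟨Wl, hWl⟩ : ∃ Wl, Wl = gv X Y T wW := ⟨_, rfl⟩
  obtain ⟨-, -, ht2, hwrel, hxrel, -, -⟩ := rels
  have htx : Commute gT gX := by
    show gT * gX = gX * gT
    calc gT * gX = gX * gT * (gT⁻¹ * gX⁻¹ * gT * gX) := by group
      _ = gX * gT := by rw [hxrel, mul_one]
  have htw : Commute gT (wev wW) := by
    rw [wev_wordG wW (lt_three hwW)]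
    show gT * wordG wW = wordG wW * gT
    calc gT * wordG wW = wordG wW * gT * (gT⁻¹ * (wordG wW)⁻¹ * gT * wordG wW) := by group
      _ = wordG wW * gT := by rw [show wW = [1, 0, 1, 0, 2, 0, 2, 0, 1, 0, 1, 0, 1] from rfl, hwrel, mul_one]
  have hWT : Commute T Wl := by
    have h21 : (X * Wl) ^ 21 = 1 := by
      have e0 : ∀ n, gv X Y T (List.replicate n (0 :: wW)).flatten = (X * Wl) ^ n := by
        intro n
        induction n with
        | zero => simp [gv]
        | succ n ih =>
          rw [List.replicate_succ, List.flatten_cons, app, ih, pow_succ', hWl]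
          simp [gv, fLet]
      rw [← e0, ← hnil T]
      exact perm (List.all_eq_true.2 fun a ha => by
        obtain ⟨l, hl, hal⟩ := List.mem_flatten.1 ha
        rw [List.eq_of_mem_replicate hl] at hal
        exact List.all_eq_true.1 (show inXY (0 :: wW) = true from inXY_append (L := [0]) rfl hwW) a hal) rfl
        (by rw [hidP]; exact pW) T
    have hc : Commute (σ T) (σ (X * Wl)) := by
      rw [map_mul, hσT, hσX, hWl, hgv]
      exact htx.mul_right htw
    have h := commute_of_odd hk hT2 hc (n := 21) rfl (by rw [← map_pow, h21, map_one])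
    have e : Wl = X⁻¹ * (X * Wl) := (inv_mul_cancel_left X Wl).symm
    rw [e]
    exact (hXT.symm.inv_right).mul_right h
  have hL : ∀ l : List ℕ, Commute T (gv X Y T (lWord l)) := by
    intro l
    induction l with
    | nil => exact Commute.one_right T
    | cons i t ih =>
      rw [lWord, List.flatMap_cons, app]
      refine Commute.mul_right ?_ ih
      match i with
      | 0 => simpa [lGen, gv, fLet] using hXT.symm
      | 1 => rw [show lGen 1 = wW from rfl, ← hWl]; exact hWT
      | 2 => rw [show lGen 2 = winv wW from rfl, inv, ← hWl]; exact hWT.inv_right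
      | i + 3 => rw [show lGen (i + 3) = [] by simp [lGen], hnil]; exact Commute.one_right T
  -- moving conjugates of `T` into the section
  have move : ∀ {C : List ℕ} {o : ℕ} {w g m l : List ℕ}, cert C o w g m l = true → inXY m = true →
      (gv X Y T w)⁻¹ * T * gv X Y T w = gv X Y T g * gv X Y T (iConj m) * (gv X Y T g)⁻¹ := by
    intro C o w g m l hcert hm
    obtain ⟨h1, h2, h3⟩ := cert_spec hinj hcert
    have h := commute_of_odd hk hT2 (g := gv X Y T (cWord w g m l)) (n := o) (by rw [hσT, hgv]; exact h1) h3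
      (by rw [hgv]; exact h2)
    have h' : Commute T (gv X Y T w * gv X Y T g * (gv X Y T hW * gv X Y T m)⁻¹) := by
      have h5 := h.mul_right (hL l).inv_right
      rw [cWord, app, app, app, inv, app, mul_assoc _ (gv X Y T (lWord l)), mul_inv_cancel, mul_one] at h5
      exact h5
    obtain ⟨a, ha⟩ : ∃ a, a = gv X Y T w := ⟨_, rfl⟩
    obtain ⟨b, hb⟩ : ∃ b, b = gv X Y T g := ⟨_, rfl⟩
    obtain ⟨q, hq⟩ : ∃ q, q = gv X Y T hW * gv X Y T m := ⟨_, rfl⟩
    have hconj : gv X Y T (iConj m) = q⁻¹ * T * q := by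
      rw [iConj, app, app, inv, hq, indep hiW T 1, ← hI0, ← hTq]
      group
    rw [hconj, ← ha, ← hb]
    rw [← ha, ← hb, ← hq] at h'
    calc a⁻¹ * T * a = a⁻¹ * T * (a * b * q⁻¹) * (q * b⁻¹) := by group
      _ = a⁻¹ * (a * b * q⁻¹ * T) * (q * b⁻¹) := by rw [← h'.eq]; group
      _ = b * (q⁻¹ * T * q) * b⁻¹ := by group
  have hconjXY : ∀ {m : List ℕ}, inXY m = true → inXY (iConj m) = true := fun hm =>
    inXY_append (inXY_append (inXY_winv hm) hiW) hm
  -- the third last relator
  obtain ⟨S, hS⟩ : ∃ S, S = (gv X Y T aW)⁻¹ * T * gv X Y T aW := ⟨_, rfl⟩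
  have hrel11 : (Y * S) ^ 3 = 1 := by
    have hw : ∀ k, gv X Y T (wY k) = gv X Y T aW * (Y ^ k)⁻¹ := by
      intro k
      rw [wY, app, ← inv_pow]
      congr 1
      induction k with
      | zero => simp [gv]
      | succ k ih => rw [List.replicate_succ, pow_succ', ← ih]; simp [gv, fLet]
    have e : ∀ k, (gv X Y T (wY k))⁻¹ * T * gv X Y T (wY k) = Y ^ k * S * (Y ^ k)⁻¹ := fun k => by
      rw [hw, hS]; group
    have e0 := (e 0).symm.trans (move certY0 hmY0)
    have e1 := (e 1).symm.trans (move certY1 hmY1)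
    have e2 := (e 2).symm.trans (move certY2 hmY2)
    calc (Y * S) ^ 3 = (Y ^ 1 * S * (Y ^ 1)⁻¹) * (Y ^ 2 * S * (Y ^ 2)⁻¹) * (Y ^ 3 * S) := by
          simp only [pow_succ, pow_zero, one_mul]; group
      _ = (Y ^ 1 * S * (Y ^ 1)⁻¹) * (Y ^ 2 * S * (Y ^ 2)⁻¹) * (Y ^ 0 * S * (Y ^ 0)⁻¹) := by
          rw [hY3]; simp
      _ = gv X Y T gY3 * gv X Y T (iConj mY1 ++ iConj mY2 ++ iConj mY0) * (gv X Y T gY3)⁻¹ := by
          rw [e0, e1, e2, app, app]; group
      _ = 1 := by
          rw [perm (inXY_append (inXY_append (hconjXY hmY1) (hconjXY hmY2)) (hconjXY hmY0)) rfl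
            (by rw [hidP]; exact pY3) T, hnil, mul_one, mul_inv_cancel]
  -- the last relator
  obtain ⟨U, hU⟩ : ∃ U, U = gv X Y T qW := ⟨_, rfl⟩
  obtain ⟨B, hB⟩ : ∃ B, B = (gv X Y T bW)⁻¹ * T * gv X Y T bW := ⟨_, rfl⟩
  have hrel12 : (U * T * B) ^ 2 = 1 := by
    have hTU : Commute T U := by
      have hlw : inXY (lWord qSeq) = true := List.all_eq_true.2 fun a ha => by
        obtain ⟨i, -, hai⟩ := List.mem_flatMap.1 ha
        revert a
        suffices inXY (lGen i) = true from fun a _ ha => List.all_eq_true.1 this a ha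
        match i with
        | 0 => rfl
        | 1 => exact hwW
        | 2 => exact inXY_winv hwW
        | i + 3 => rw [show lGen (i + 3) = [] by simp [lGen]]; rfl
      rw [hU, ← perm hlw hqW pL T]
      exact hL _
    have e0 : gv X Y T gD * gv X Y T (iConj mD0) * (gv X Y T gD)⁻¹ = B := (move certD0 hmD0).symm.trans hB.symm
    have e1 : gv X Y T gD * gv X Y T (iConj mD1) * (gv X Y T gD)⁻¹ = U * U := by
      rw [← move certD1 hmD1, hU, ← app, perm (inXY_append hqW hqW) (hconjXY hsW) pQ T, iConj, app, app, inv,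
        indep hiW T 1, ← hI0, show wD 1 = hW ++ sW from rfl, app, ← hTq]
      group
    have e2 : gv X Y T gD * gv X Y T (iConj mD2) * (gv X Y T gD)⁻¹ = T * U * B * U⁻¹ * T := by
      rw [← move certD2 hmD2, show wD 2 = bW ++ winv qW ++ [3] from rfl, app, app, inv, ← hU,
        show gv X Y T [3] = T by simp [gv, fLet], hB]
      rw [mul_inv_rev, mul_inv_rev, inv_inv, inv_eq_of_mul_eq_one_right hT2]
      group
    calc (U * T * B) ^ 2 = U * T * B * (U * T) * B := by rw [pow_two]; simp only [mul_assoc]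
      _ = T * U * B * U⁻¹ * (U * U * T) * B := by
          rw [show U * T = T * U from hTU.eq.symm]
          calc T * U * B * (T * U) * B = T * U * B * U⁻¹ * (U * (T * U)) * B := by group
            _ = T * U * B * U⁻¹ * (U * (U * T)) * B := by rw [show T * U = U * T from hTU.eq]
            _ = _ := by group
      _ = (T * U * B * U⁻¹ * T) * (U * U) * B := by
          rw [← (hTU.mul_right hTU).eq]; group
      _ = gv X Y T gD * gv X Y T (iConj mD2 ++ iConj mD1 ++ iConj mD0) * (gv X Y T gD)⁻¹ := by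
          rw [← e2, ← e1, ← e0, app, app]; group
      _ = 1 := by
          rw [perm (inXY_append (inXY_append (hconjXY hmD2) (hconjXY hmD1)) (hconjXY hmD0)) rfl
            (by rw [hidP]; exact pD3) T, hnil, mul_one, mul_inv_cancel]
  -- the group splits
  let u : J4.Gen → Γ := fun g => match g with
    | .x => X
    | .y => Y
    | .t => T
  have hrel : ∀ r ∈ coxRelators J4.edges ∪ {r | r ∈ J4.extra}, FreeGroup.lift u r = 1 := by
    rintro r (⟨a, ha, -⟩ | hr)
    · exact absurd ha (by simp [coxNodes, J4.edges])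
    let v : J4.Gen → XY := fun g => match g with
      | .x => ⟨gX, Subgroup.subset_closure (Or.inl rfl)⟩
      | .y => ⟨gY, Subgroup.subset_closure (Or.inr rfl)⟩
      | .t => 1
    have q : ∀ r ∈ J4.extra.take 7, s (FreeGroup.lift v r) = 1 := by
      intro r hr
      refine (congrArg s (Subtype.ext ?_)).trans (map_one s)
      have h1 := relator r (List.mem_of_mem_take hr)
      simp only [J4.extra, List.take_succ_cons, List.take_zero, List.mem_cons, List.not_mem_nil, or_false] at hr
      rw [OneMemClass.coe_one, ← h1]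
      rcases hr with rfl | rfl | rfl | rfl | rfl | rfl | rfl <;>
        simp only [map_mul, map_pow, map_inv, FreeGroup.lift_apply_of, v, Subgroup.coe_mul, SubgroupClass.coe_pow,
          InvMemClass.coe_inv] <;> rfl
    simp only [J4.extra, List.take_succ_cons, List.take_zero, List.forall_mem_cons, List.forall_mem_nil,
      map_mul, map_pow, map_inv, FreeGroup.lift_apply_of, v] at q
    obtain ⟨q1, q2, q3, q4, q5, q6, q7, -⟩ := q
    have hXd : s ⟨gX, Subgroup.subset_closure (Or.inl rfl)⟩ = X := hX.symm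
    have hYd : s ⟨gY, Subgroup.subset_closure (Or.inr rfl)⟩ = Y := hY.symm
    simp only [hXd, hYd] at q1 q2 q3 q4 q5 q6 q7
    simp only [J4.extra, Set.mem_setOf_eq, List.mem_cons, List.not_mem_nil, or_false] at hr
    have t8 : T ^ 2 = 1 := by rw [pow_two]; exact hT2
    have t9 : T⁻¹ * Wl⁻¹ * T * Wl = 1 := by
      rw [mul_assoc _ T, hWT.eq, mul_assoc T⁻¹, inv_mul_cancel_left, inv_mul_cancel]
    have t10 : T⁻¹ * X⁻¹ * T * X = 1 := by
      rw [mul_assoc _ T, hXT.symm.eq, mul_assoc T⁻¹, inv_mul_cancel_left, inv_mul_cancel]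
    rw [hS] at hrel11
    rw [hU, hB] at hrel12
    rw [hWl] at t9
    simp only [gv, wW, List.map_cons, List.map_nil, List.prod_cons, List.prod_nil, fLet, List.getD_cons_zero,
      List.getD_cons_succ, mul_one] at t9
    unfold aW at hrel11
    unfold bW qW at hrel12
    simp only [gv, List.map_cons, List.map_nil, List.prod_cons, List.prod_nil, fLet, List.getD_cons_zero,
      List.getD_cons_succ, mul_one, pow_succ, pow_zero, one_mul] at hrel11 hrel12
    rcases hr with rfl | rfl | rfl | rfl | rfl | rfl | rfl | rfl | rfl | rfl | rfl | rfl <;>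
      simp only [map_mul, map_pow, map_inv, FreeGroup.lift_apply_of, u]
    · exact q1
    · exact q2
    · exact q3
    · exact q4
    · exact q5
    · exact q6
    · exact q7
    · exact t8
    · simpa only [pow_succ, pow_zero, one_mul, mul_assoc] using t9
    · exact t10
    · simpa only [pow_succ, pow_zero, one_mul, mul_assoc] using hrel11
    · simpa only [pow_succ, pow_zero, one_mul, mul_assoc] using hrel12
  let S0 : J4P →* Γ := PresentedGroup.toGroup hrel
  have hS0 : σ.comp S0 = MonoidHom.id J4P := by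
    refine PresentedGroup.ext fun g => ?_
    rw [MonoidHom.comp_apply, PresentedGroup.toGroup.of]
    cases g
    · exact hσX
    · show σ Y = gY
      rw [hY]
      exact hs _
    · exact hσT
  have hdec : ∀ g ∈ (⊤ : Subgroup Γ), ∃ j ∈ S0.range, ∃ c ∈ σ.ker, g = j * c := fun g _ =>
    ⟨S0 (σ g), ⟨_, rfl⟩, (S0 (σ g))⁻¹ * g, by
      rw [MonoidHom.mem_ker, map_mul, map_inv, ← MonoidHom.comp_apply σ S0, hS0, MonoidHom.id_apply,
        inv_mul_cancel], (mul_inv_cancel_left _ g).symm⟩
  have hle : commutator Γ ≤ S0.range := by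
    exact commutator_le_of_decomp hk fun g => hdec g (Subgroup.mem_top g)
  rw [eq_bot_iff]
  intro g hg
  obtain ⟨a, rfl⟩ := hle (hcom hg)
  have : a = 1 := by
    rw [← MonoidHom.id_apply (M := J4P) a, ← hS0]
    exact hg
  rw [Subgroup.mem_bot, this, map_one]

theorem hasMultiplier (hinj : Function.Injective rep) [Finite J4P] :
    Cfsg.HasCyclicSchurMultiplier J4P 1 :=
  Basic.hasCyclicSchurMultiplier_one_of fun Γ _ _ σ hσ => ker_eq_bot hinj Γ σ hσ

end CfsgLib.Schur.Sporadic.JFour
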